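import Mathlib

/-!
# The generic determinant: irreducibility and units of the coordinate ring of `GL_n`
-/

universe u v

open MvPolynomial

namespace Groth.Agent.DetPoly

/-- The determinant of a matrix of distinct variables. -/
noncomputable def gdet (K : Type u) [CommRing K] {σ : Type v} {n : ℕ} (ι : Fin n × Fin n → σ) : MvPolynomial σ K :=
  (Matrix.of fun i j => X (ι (i, j))).det

theorem gdet_eq_rename (K : Type u) [CommRing K] {σ : Type v} {n : ℕ} (ι : Fin n × Fin n → σ) :
    gdet K ι = rename ι (Matrix.mvPolynomialX (Fin n) (Fin n) K).det := by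
  rw [AlgHom.map_det, gdet]
  congr 1
  ext i j
  simp [Matrix.mvPolynomialX]

theorem notMem_vars_gdet (K : Type u) [CommRing K] {σ : Type v} {n : ℕ} (ι : Fin n × Fin n → σ) {x : σ}
    (hx : ∀ y, ι y ≠ x) : x ∉ (gdet K ι).vars := by
  classical
  rw [gdet_eq_rename]
  intro h
  obtain ⟨y, -, hy⟩ := Finset.mem_image.1 (vars_rename ι _ h)
  exact hx y hy

theorem eval_gdet {K : Type u} [CommRing K] {σ : Type v} {n : ℕ} (ι : Fin n × Fin n → σ) (v : σ → K) :
    eval v (gdet K ι) = (Matrix.of fun i j => v (ι (i, j))).det := by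
  rw [gdet, RingHom.map_det]
  congr 1
  ext i j
  simp

theorem irreducible_gdet (K : Type u) [Field K] {σ : Type v} :
    ∀ (n : ℕ) (ι : Fin (n + 1) × Fin (n + 1) → σ), Function.Injective ι → Irreducible (gdet K ι) := by
  classical
  intro n
  induction n with
  | zero =>
    intro ι _
    have : gdet K ι = X (ι (0, 0)) := by
      rw [gdet, Matrix.det_fin_one]
      rfl
    rw [this]
    refine MvPolynomial.irreducible_of_totalDegree_eq_one (totalDegree_X _) fun c hc => ?_
    have h := hc (Finsupp.single (ι (0, 0)) 1)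
    simp [coeff_X] at h
    exact isUnit_iff_ne_zero.2 h
  | succ n ih =>
    intro ι hι
    set x := ι (0, 0) with hx
    let sub : Fin (n + 2) → Fin (n + 1) × Fin (n + 1) → σ := fun j p => ι (p.1.succ, j.succAbove p.2)
    have hfree : ∀ j, x ∉ (gdet K (sub j)).vars := fun j => notMem_vars_gdet K _ fun p h =>
      Fin.succ_ne_zero p.1 (congrArg Prod.fst (hι h))
    have hD : Irreducible (gdet K (sub 0)) := ih _ fun p q h => by
      have h' := hι h
      simp only [Prod.mk.injEq] at h'
      exact Prod.ext (Fin.succ_injective _ h'.1) (Fin.succAbove_right_injective h'.2)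
    have hlap : gdet K ι = ∑ j : Fin (n + 2), (-1) ^ (j : ℕ) * X (ι (0, j)) * gdet K (sub j) :=
      Matrix.det_succ_row_zero _
    have hsign : ∀ j : ℕ, x ∉ ((-1 : MvPolynomial σ K) ^ j).vars := fun j => by
      rcases neg_one_pow_eq_or (MvPolynomial σ K) j with h | h <;> rw [h]
      · simp
      · rw [← map_one C, ← map_neg C, vars_C]; simp
    have hder : pderiv x (gdet K ι) = gdet K (sub 0) := by
      rw [hlap, map_sum, Finset.sum_eq_single 0]
      · rw [Fin.val_zero, pow_zero, one_mul, pderiv_mul, pderiv_eq_zero_of_notMem_vars (hfree 0), ← hx,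
          pderiv_X_self, mul_zero, add_zero, one_mul]
      · intro j _ hj
        rw [pderiv_mul, pderiv_mul, pderiv_eq_zero_of_notMem_vars (hfree j), pderiv_eq_zero_of_notMem_vars (hsign _),
          pderiv_X_of_ne (fun h => hj (congrArg Prod.snd (hι h)))]
        ring
      · simp
    have hfree0 : ∀ {P : MvPolynomial σ K}, x ∉ P.vars → P.degreeOf x = 0 := fun h =>
      Nat.eq_zero_of_not_pos fun h0 => h (MvPolynomial.mem_vars_iff_degreeOf_ne_zero.2 h0.ne')
    have hdeg : (gdet K ι).degreeOf x ≤ 1 := by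
      rw [hlap]
      refine (degreeOf_sum_le x Finset.univ _).trans (Finset.sup_le fun j _ => ?_)
      refine (degreeOf_mul_le x _ _).trans ((Nat.add_le_add (degreeOf_mul_le x _ _) le_rfl).trans ?_)
      rw [hfree0 (hsign _), hfree0 (hfree j), degreeOf_X]
      split_ifs <;> omega
    let v : σ → K := Function.extend ι (fun p => (Equiv.swap (0 : Fin (n + 2)) 1).permMatrix K p.1 p.2) 0
    have hv : ∀ p, v (ι p) = (Equiv.swap (0 : Fin (n + 2)) 1).permMatrix K p.1 p.2 := fun p => hι.extend_apply _ _ p
    have hv1 : eval v (gdet K ι) ≠ 0 := by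
      rw [eval_gdet, show (Matrix.of fun i j => v (ι (i, j))) = (Equiv.swap (0 : Fin (n + 2)) 1).permMatrix K from
        Matrix.ext fun i j => hv (i, j), Matrix.det_permutation]
      simp
    have hv2 : eval v (gdet K (sub 0)) = 0 := by
      rw [eval_gdet]
      refine Matrix.det_eq_zero_of_row_eq_zero (0 : Fin (n + 1)) fun j => ?_
      show v (ι _) = 0
      rw [hv, Equiv.Perm.permMatrix, PEquiv.toMatrix_apply]
      simp [Fin.succ_zero_eq_one, eq_comm]
    refine ⟨fun hu => ?_, fun p q hpq => ?_⟩
    · have := (hu.map (eval (0 : σ → K))).ne_zero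
      rw [eval_gdet] at this
      exact this (Matrix.det_eq_zero_of_row_eq_zero 0 fun j => rfl)
    · have hne : gdet K ι ≠ 0 := fun h => hv1 (by rw [h, map_zero])
      have hp0 : p ≠ 0 := left_ne_zero_of_mul (hpq ▸ hne)
      have hq0 : q ≠ 0 := right_ne_zero_of_mul (hpq ▸ hne)
      have key : ∀ a b : MvPolynomial σ K, gdet K ι = a * b → a.degreeOf x = 0 → IsUnit a := by
        intro a b hab ha
        have hdvd : a ∣ gdet K (sub 0) := by
          rw [← hder, hab, pderiv_mul, pderiv_eq_zero_of_notMem_vars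
            (fun h => MvPolynomial.mem_vars_iff_degreeOf_ne_zero.1 h ha), zero_mul, zero_add]
          exact dvd_mul_right _ _
        rcases hD.dvd_iff.1 hdvd with h | h
        · exact h
        · exfalso
          obtain ⟨c, hc⟩ := h.dvd.trans (Dvd.intro b hab.symm)
          exact hv1 (by rw [hc, map_mul, hv2, zero_mul])
      have h1 : p.degreeOf x + q.degreeOf x ≤ 1 := by
        rw [← degreeOf_mul_eq hp0 hq0, ← hpq]; exact hdeg
      rcases Nat.eq_zero_or_pos (p.degreeOf x) with h | h
      · exact Or.inl (key p q hpq h)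
      · exact Or.inr (key q p (hpq.trans (mul_comm p q)) (by omega))

variable (n : ℕ)

theorem eval_one_det (A : Type u) [CommRing A] :
    eval (fun p : Fin n × Fin n => if p.1 = p.2 then (1 : A) else 0) (Matrix.mvPolynomialX (Fin n) (Fin n) A).det = 1 := by
  rw [RingHom.map_det]
  convert Matrix.det_one (R := A) (n := Fin n) using 2
  ext i j
  simp [Matrix.mvPolynomialX, Matrix.one_apply]

/-- Divisors of powers of the determinant over a field. -/
theorem exists_eq_of_mul_eq_pow (K : Type u) [Field K] (f g : MvPolynomial (Fin (n + 1) × Fin (n + 1)) K) (N : ℕ)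
    (h : f * g = (Matrix.mvPolynomialX (Fin (n + 1)) (Fin (n + 1)) K).det ^ N) :
    ∃ e ≤ N, f = C (eval (fun p : Fin (n + 1) × Fin (n + 1) => if p.1 = p.2 then (1 : K) else 0) f) *
      (Matrix.mvPolynomialX (Fin (n + 1)) (Fin (n + 1)) K).det ^ e := by
  have hirr : Irreducible (Matrix.mvPolynomialX (Fin (n + 1)) (Fin (n + 1)) K).det := by
    have := irreducible_gdet K n id Function.injective_id
    rwa [gdet_eq_rename, rename_id, AlgHom.id_apply] at this
  obtain ⟨e, he, hass⟩ := (dvd_prime_pow hirr.prime N).1 (Dvd.intro g h)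
  obtain ⟨c, hc⟩ := hass.symm
  obtain ⟨r, -, hr⟩ := (MvPolynomial.isUnit_iff_eq_C_of_isReduced).1 c.isUnit
  refine ⟨e, he, ?_⟩
  rw [← hc, hr, map_mul, map_pow, eval_one_det, one_pow, one_mul, eval_C, mul_comm]

end Groth.Agent.DetPoly
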